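import Cfsg.Agent.LD.M3
import Cfsg.Agent.LD.E8

set_option autoImplicit false
set_option maxRecDepth 100000

/-! Finite checks for elements of order 73 in type E8 and modules of `SL₂(729)`: definitions. -/

namespace Cfsg.Agent.LD.M

@[ext] structure R8 where
  a : ℕ
  b : ℕ
  c : ℕ
  d : ℕ
  e : ℕ
  f : ℕ
  g : ℕ
  h : ℕ
deriving DecidableEq

namespace R8

def add (x y : R8) : R8 := ⟨x.a + y.a, x.b + y.b, x.c + y.c, x.d + y.d, x.e + y.e, x.f + y.f, x.g + y.g, x.h + y.h⟩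

instance : Add R8 := ⟨add⟩
instance : Zero R8 := ⟨⟨0, 0, 0, 0, 0, 0, 0, 0⟩⟩

theorem add_def (x y : R8) : x + y =
    ⟨x.a + y.a, x.b + y.b, x.c + y.c, x.d + y.d, x.e + y.e, x.f + y.f, x.g + y.g, x.h + y.h⟩ := rfl
theorem zero_def : (0 : R8) = ⟨0, 0, 0, 0, 0, 0, 0, 0⟩ := rfl

instance : AddCommMonoid R8 where
  add_assoc x y z := by ext <;> simp only [add_def] <;> omega
  zero_add x := by ext <;> simp only [add_def, zero_def] <;> omega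
  add_zero x := by ext <;> simp only [add_def, zero_def] <;> omega
  add_comm x y := by ext <;> simp only [add_def] <;> omega
  nsmul := nsmulRec

def dim (x : R8) : ℕ := x.a + x.b + x.c + x.d + x.e + x.f + x.g

def dot (s r : R8) : ℕ :=
  Nat.add (Nat.add (Nat.add (Nat.mul r.a s.a) (Nat.mul r.b s.b)) (Nat.add (Nat.mul r.c s.c) (Nat.mul r.d s.d)))
    (Nat.add (Nat.add (Nat.mul r.e s.e) (Nat.mul r.f s.f)) (Nat.add (Nat.mul r.g s.g) (Nat.mul r.h s.h)))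

end R8

def frc (n : ℕ) (k : ℕ → Bool) : Bool := Nat.rec (k 0) (fun m _ => k (Nat.succ m)) n

theorem frc_eq (n : ℕ) (k : ℕ → Bool) : frc n k = k n := by cases n <;> rfl

def frc8 (x : R8) (k : R8 → Bool) : Bool :=
  frc x.a fun a => frc x.b fun b => frc x.c fun c => frc x.d fun d => frc x.e fun e => frc x.f fun f =>
    frc x.g fun g => frc x.h fun h => k ⟨a, b, c, d, e, f, g, h⟩

theorem frc8_eq (x : R8) (k : R8 → Bool) : frc8 x k = k x := by simp only [frc8, frc_eq]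

def pos : List R8 := [
  ⟨0, 0, 0, 0, 0, 0, 0, 1⟩, ⟨0, 0, 0, 0, 0, 0, 1, 0⟩, ⟨0, 0, 0, 0, 0, 0, 1, 1⟩, ⟨0, 0, 0, 0, 0, 1, 0, 0⟩,
  ⟨0, 0, 0, 0, 0, 1, 1, 0⟩, ⟨0, 0, 0, 0, 0, 1, 1, 1⟩, ⟨0, 0, 0, 0, 1, 0, 0, 0⟩, ⟨0, 0, 0, 0, 1, 1, 0, 0⟩,
  ⟨0, 0, 0, 0, 1, 1, 1, 0⟩, ⟨0, 0, 0, 0, 1, 1, 1, 1⟩, ⟨0, 0, 0, 1, 0, 0, 0, 0⟩, ⟨0, 0, 0, 1, 1, 0, 0, 0⟩,
  ⟨0, 0, 0, 1, 1, 1, 0, 0⟩, ⟨0, 0, 0, 1, 1, 1, 1, 0⟩, ⟨0, 0, 0, 1, 1, 1, 1, 1⟩, ⟨0, 0, 1, 0, 0, 0, 0, 0⟩,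
  ⟨0, 0, 1, 1, 0, 0, 0, 0⟩, ⟨0, 0, 1, 1, 1, 0, 0, 0⟩, ⟨0, 0, 1, 1, 1, 1, 0, 0⟩, ⟨0, 0, 1, 1, 1, 1, 1, 0⟩,
  ⟨0, 0, 1, 1, 1, 1, 1, 1⟩, ⟨0, 1, 0, 0, 0, 0, 0, 0⟩, ⟨0, 1, 0, 1, 0, 0, 0, 0⟩, ⟨0, 1, 0, 1, 1, 0, 0, 0⟩,
  ⟨0, 1, 0, 1, 1, 1, 0, 0⟩, ⟨0, 1, 0, 1, 1, 1, 1, 0⟩, ⟨0, 1, 0, 1, 1, 1, 1, 1⟩, ⟨0, 1, 1, 1, 0, 0, 0, 0⟩,
  ⟨0, 1, 1, 1, 1, 0, 0, 0⟩, ⟨0, 1, 1, 1, 1, 1, 0, 0⟩, ⟨0, 1, 1, 1, 1, 1, 1, 0⟩, ⟨0, 1, 1, 1, 1, 1, 1, 1⟩,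
  ⟨0, 1, 1, 2, 1, 0, 0, 0⟩, ⟨0, 1, 1, 2, 1, 1, 0, 0⟩, ⟨0, 1, 1, 2, 1, 1, 1, 0⟩, ⟨0, 1, 1, 2, 1, 1, 1, 1⟩,
  ⟨0, 1, 1, 2, 2, 1, 0, 0⟩, ⟨0, 1, 1, 2, 2, 1, 1, 0⟩, ⟨0, 1, 1, 2, 2, 1, 1, 1⟩, ⟨0, 1, 1, 2, 2, 2, 1, 0⟩,
  ⟨0, 1, 1, 2, 2, 2, 1, 1⟩, ⟨0, 1, 1, 2, 2, 2, 2, 1⟩, ⟨1, 0, 0, 0, 0, 0, 0, 0⟩, ⟨1, 0, 1, 0, 0, 0, 0, 0⟩,
  ⟨1, 0, 1, 1, 0, 0, 0, 0⟩, ⟨1, 0, 1, 1, 1, 0, 0, 0⟩, ⟨1, 0, 1, 1, 1, 1, 0, 0⟩, ⟨1, 0, 1, 1, 1, 1, 1, 0⟩,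
  ⟨1, 0, 1, 1, 1, 1, 1, 1⟩, ⟨1, 1, 1, 1, 0, 0, 0, 0⟩, ⟨1, 1, 1, 1, 1, 0, 0, 0⟩, ⟨1, 1, 1, 1, 1, 1, 0, 0⟩,
  ⟨1, 1, 1, 1, 1, 1, 1, 0⟩, ⟨1, 1, 1, 1, 1, 1, 1, 1⟩, ⟨1, 1, 1, 2, 1, 0, 0, 0⟩, ⟨1, 1, 1, 2, 1, 1, 0, 0⟩,
  ⟨1, 1, 1, 2, 1, 1, 1, 0⟩, ⟨1, 1, 1, 2, 1, 1, 1, 1⟩, ⟨1, 1, 1, 2, 2, 1, 0, 0⟩, ⟨1, 1, 1, 2, 2, 1, 1, 0⟩,
  ⟨1, 1, 1, 2, 2, 1, 1, 1⟩, ⟨1, 1, 1, 2, 2, 2, 1, 0⟩, ⟨1, 1, 1, 2, 2, 2, 1, 1⟩, ⟨1, 1, 1, 2, 2, 2, 2, 1⟩,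
  ⟨1, 1, 2, 2, 1, 0, 0, 0⟩, ⟨1, 1, 2, 2, 1, 1, 0, 0⟩, ⟨1, 1, 2, 2, 1, 1, 1, 0⟩, ⟨1, 1, 2, 2, 1, 1, 1, 1⟩,
  ⟨1, 1, 2, 2, 2, 1, 0, 0⟩, ⟨1, 1, 2, 2, 2, 1, 1, 0⟩, ⟨1, 1, 2, 2, 2, 1, 1, 1⟩, ⟨1, 1, 2, 2, 2, 2, 1, 0⟩,
  ⟨1, 1, 2, 2, 2, 2, 1, 1⟩, ⟨1, 1, 2, 2, 2, 2, 2, 1⟩, ⟨1, 1, 2, 3, 2, 1, 0, 0⟩, ⟨1, 1, 2, 3, 2, 1, 1, 0⟩,
  ⟨1, 1, 2, 3, 2, 1, 1, 1⟩, ⟨1, 1, 2, 3, 2, 2, 1, 0⟩, ⟨1, 1, 2, 3, 2, 2, 1, 1⟩, ⟨1, 1, 2, 3, 2, 2, 2, 1⟩,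
  ⟨1, 1, 2, 3, 3, 2, 1, 0⟩, ⟨1, 1, 2, 3, 3, 2, 1, 1⟩, ⟨1, 1, 2, 3, 3, 2, 2, 1⟩, ⟨1, 1, 2, 3, 3, 3, 2, 1⟩,
  ⟨1, 2, 2, 3, 2, 1, 0, 0⟩, ⟨1, 2, 2, 3, 2, 1, 1, 0⟩, ⟨1, 2, 2, 3, 2, 1, 1, 1⟩, ⟨1, 2, 2, 3, 2, 2, 1, 0⟩,
  ⟨1, 2, 2, 3, 2, 2, 1, 1⟩, ⟨1, 2, 2, 3, 2, 2, 2, 1⟩, ⟨1, 2, 2, 3, 3, 2, 1, 0⟩, ⟨1, 2, 2, 3, 3, 2, 1, 1⟩,
  ⟨1, 2, 2, 3, 3, 2, 2, 1⟩, ⟨1, 2, 2, 3, 3, 3, 2, 1⟩, ⟨1, 2, 2, 4, 3, 2, 1, 0⟩, ⟨1, 2, 2, 4, 3, 2, 1, 1⟩,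
  ⟨1, 2, 2, 4, 3, 2, 2, 1⟩, ⟨1, 2, 2, 4, 3, 3, 2, 1⟩, ⟨1, 2, 2, 4, 4, 3, 2, 1⟩, ⟨1, 2, 3, 4, 3, 2, 1, 0⟩,
  ⟨1, 2, 3, 4, 3, 2, 1, 1⟩, ⟨1, 2, 3, 4, 3, 2, 2, 1⟩, ⟨1, 2, 3, 4, 3, 3, 2, 1⟩, ⟨1, 2, 3, 4, 4, 3, 2, 1⟩,
  ⟨1, 2, 3, 5, 4, 3, 2, 1⟩, ⟨1, 3, 3, 5, 4, 3, 2, 1⟩, ⟨2, 2, 3, 4, 3, 2, 1, 0⟩, ⟨2, 2, 3, 4, 3, 2, 1, 1⟩,
  ⟨2, 2, 3, 4, 3, 2, 2, 1⟩, ⟨2, 2, 3, 4, 3, 3, 2, 1⟩, ⟨2, 2, 3, 4, 4, 3, 2, 1⟩, ⟨2, 2, 3, 5, 4, 3, 2, 1⟩,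
  ⟨2, 2, 4, 5, 4, 3, 2, 1⟩, ⟨2, 3, 3, 5, 4, 3, 2, 1⟩, ⟨2, 3, 4, 5, 4, 3, 2, 1⟩, ⟨2, 3, 4, 6, 4, 3, 2, 1⟩,
  ⟨2, 3, 4, 6, 5, 3, 2, 1⟩, ⟨2, 3, 4, 6, 5, 4, 2, 1⟩, ⟨2, 3, 4, 6, 5, 4, 3, 1⟩, ⟨2, 3, 4, 6, 5, 4, 3, 2⟩]

def LL : List R8 := [
  ⟨3, 60, 36, 36, 36, 36, 36, 120⟩, ⟨0, 72, 24, 0, 60, 36, 24, 108⟩, ⟨0, 48, 12, 12, 60, 36, 48, 108⟩,
  ⟨0, 36, 24, 48, 36, 36, 36, 108⟩, ⟨0, 36, 24, 36, 48, 24, 48, 108⟩, ⟨12, 0, 60, 72, 0, 24, 48, 108⟩,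
  ⟨0, 72, 24, 12, 48, 48, 12, 108⟩, ⟨0, 36, 36, 48, 24, 48, 24, 108⟩, ⟨0, 12, 24, 48, 36, 36, 60, 108⟩,
  ⟨0, 36, 36, 36, 36, 36, 36, 108⟩, ⟨12, 36, 60, 36, 12, 24, 36, 108⟩, ⟨0, 48, 24, 36, 48, 36, 24, 108⟩,
  ⟨0, 24, 24, 48, 36, 36, 48, 108⟩, ⟨6, 24, 48, 24, 24, 24, 12, 84⟩, ⟨6, 24, 48, 24, 12, 24, 24, 84⟩,
  ⟨6, 36, 48, 24, 0, 24, 24, 84⟩, ⟨0, 0, 24, 36, 12, 12, 24, 54⟩, ⟨0, 24, 12, 12, 24, 24, 12, 54⟩,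
  ⟨0, 0, 12, 24, 12, 12, 36, 48⟩, ⟨0, 36, 12, 0, 24, 12, 12, 48⟩, ⟨0, 24, 0, 0, 24, 12, 12, 36⟩,
  ⟨0, 0, 24, 24, 0, 0, 24, 36⟩, ⟨0, 0, 24, 12, 0, 12, 24, 36⟩, ⟨0, 12, 24, 12, 0, 12, 12, 36⟩,
  ⟨0, 0, 0, 12, 24, 12, 24, 36⟩, ⟨0, 0, 12, 24, 12, 24, 0, 36⟩, ⟨0, 12, 0, 12, 24, 24, 0, 36⟩,
  ⟨0, 36, 0, 0, 12, 12, 12, 36⟩, ⟨0, 12, 12, 24, 0, 12, 12, 36⟩, ⟨0, 36, 12, 0, 12, 12, 0, 36⟩,
  ⟨4, 12, 24, 12, 0, 12, 0, 32⟩, ⟨6, 0, 24, 12, 0, 0, 12, 28⟩, ⟨6, 12, 24, 12, 0, 0, 0, 24⟩,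
  ⟨6, 0, 36, 0, 0, 0, 12, 24⟩, ⟨0, 0, 0, 12, 12, 12, 12, 24⟩, ⟨3, 0, 12, 0, 0, 12, 0, 12⟩,
  ⟨0, 0, 12, 12, 0, 0, 0, 12⟩, ⟨0, 12, 0, 0, 0, 12, 0, 12⟩, ⟨6, 0, 12, 0, 0, 0, 0, 12⟩,
  ⟨0, 0, 0, 0, 12, 0, 0, 6⟩, ⟨1, 0, 0, 0, 0, 0, 0, 0⟩]

def TT : List R8 := [
  ⟨20, 0, 36, 12, 108, 36, 36, 0⟩, ⟨20, 12, 0, 36, 36, 108, 36, 0⟩, ⟨20, 36, 12, 0, 36, 36, 108, 0⟩,
  ⟨20, 36, 36, 108, 12, 0, 36, 0⟩, ⟨20, 36, 108, 36, 0, 36, 12, 0⟩, ⟨20, 108, 36, 36, 36, 12, 0, 0⟩,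
  ⟨32, 0, 12, 12, 96, 96, 0, 0⟩, ⟨32, 0, 96, 96, 0, 12, 12, 0⟩, ⟨32, 12, 0, 12, 0, 96, 96, 0⟩,
  ⟨32, 12, 12, 0, 96, 0, 96, 0⟩, ⟨32, 96, 0, 96, 12, 0, 12, 0⟩, ⟨32, 96, 96, 0, 12, 12, 0, 0⟩,
  ⟨248, 0, 0, 0, 0, 0, 0, 0⟩]

def CL : ℕ := 0x1213425115436642522655312414656346333364365641421355622524663451152431210

def cls (y : ℕ) : ℕ := Nat.land (Nat.shiftRight CL (Nat.mul 4 y)) 15

def ind (k j : ℕ) : ℕ := cond (Nat.beq k j) 1 0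

def U73 (y : ℕ) : R8 :=
  ⟨ind (cls y) 0, ind (cls y) 1, ind (cls y) 2, ind (cls y) 3, ind (cls y) 4, ind (cls y) 5, ind (cls y) 6, 0⟩

def U4 (y : ℕ) : R8 := ⟨0, 0, 0, 0, 0, 0, 0, ind y 2⟩

def TS (s : R8) : R8 := ⟨8, 0, 0, 0, 0, 0, 0, 0⟩ +
  (pos.map fun r => U73 (Nat.mod (R8.dot s r) 73) + U73 (Nat.mod (R8.dot s r) 73)).sum

def WW : ℕ := 0x100000000c92bdfc0be8af4c0fe3c46714b4dd760ab954d30f315cbb11521e5517d7cfa31ed7169e12953a8a1225bca20d732503119d37460b179732103b957518d4419e1480bca6095d4b180f66b2710d20f5e00a69571410d1663f1643dac90894cc15134db4d20e65c1ff0445cb470a84b2a61679ca500c5d2d2810385cf60b05e4dc19fae4710f7814620d4b90da0f42ad080f42ad080d4b90da0f78146219fae4710b05e4dc10385cf60c5d2d281679ca500a84b2a60445cb470e65c1ff134db4d20894cc151643dac910d1663f0a6957140d20f5e00f66b271095d4b181480bca618d4419e103b95750b179732119d37460d7325031225bca212953a8a1ed7169e17d7cfa311521e550f315cbb0ab954d314b4dd760fe3c4670be8af4c0c92bdfc10000000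
def HH : ℕ := 0xb791f7700ed9c5d0ee6617b07f83d4601a8c8270504ed11039f621e0be5bb2f0f029d1407e3ecb50c2f2b3903435fd007fa846b006b6e7306ef73540d0f92cd08f1850305d390560c76453e051b7a4b024d43c90470c85d0e3c180f040deb8c043b512f000e8a26002b867606b3dddf06e538c3054eb22b0553d7410941fceb0a096e97065d4d25068d8dc505d03acd05d03acd068d8dc5065d4d250a096e970941fceb0553d741054eb22b06e538c306b3dddf002b8676000e8a26043b512f040deb8c0e3c180f0470c85d024d43c9051b7a4b0c76453e05d3905608f185030d0f92cd06ef7354006b6e7307fa846b03435fd00c2f2b3907e3ecb50f029d140be5bb2f039f621e0504ed1101a8c82707f83d460ee6617b00ed9c5d0b791f77082c9b07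
def C0 : ℕ := 0x20202020202020202020202020201010101010101010101010101010101010101010101010101010101010101010101010101010101010101010101010101010101010101010101010101010101000000000000000000000000000000000000000000000000000000000000000000000000000000000000
def C1 : ℕ := 0x30303030303030202020202020203020202020202020202020202020202020202020202010101010101010101010101010101010101010101010101010101010101010101010100000000000000010101010101010101010101010101010101010101000000000000000000000000000000000000000000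
def C2 : ℕ := 0x40404040404030403030303030303030303030303020202020202020202020202020202020202020202020202020202020202020202020201010101010101010101010101010101010101010100010101010101010101010101010101000000000000010101010101000000000000000000000000000000
def C3 : ℕ := 0x60606060605050505040404040405050404040404040404040403030303030303030303030303030303030303030202020202020202020202020202020202020202010101010101010101010000020202020202020202020101010101010101010100010101010100010101010100000000000000000000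
def C4 : ℕ := 0x50505050404040404040303030304040403030303040303030303030303020202020202030303030202020202020202020202020101010102020202020201010101010101010001010101000000020202020202010101010101010100010101010000010101010000010101010001010101000000000000
def C5 : ℕ := 0x40404030303030303030302020203030303020202030302020203020202020202010101030202020202020101010202020101010101010002020201010101010100010101000001010100000000020202010101010101000101010000010101000000010101000000010101000001010100010101000000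
def C6 : ℕ := 0x30302020202020202020202010102020202020101020202010102020101020101010100020201010201010101000201010101000101000002010101010001010000010100000001010000000000020101010100010100000101000000010100000000010100000000010100000001010000010100010100
def C7 : ℕ := 0x20101010101010101010101010001010101010100010101010001010100010100010000010101000101000100000101000100000100000001010001000001000000010000000001000000000000010100010000010000000100000000010000000000010000000000010000000001000000010000010001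

def wv (v : ℕ) : ℕ := Nat.land (Nat.shiftRight WW (Nat.mul 32 v)) 0xffffffff
def hv (v : ℕ) : ℕ := Nat.land (Nat.shiftRight HH (Nat.mul 32 v)) 0xffffffff

noncomputable def hsum (V : ℕ) : ℕ := @Nat.rec (fun _ => ℕ) 0
  (fun k ih => Nat.add (wv (Nat.land (Nat.shiftRight V (Nat.mul 8 k)) 255)) ih) 120

def VV (s0 s1 s2 s3 s4 s5 s6 s7 : ℕ) : ℕ :=
  Nat.add (Nat.add (Nat.add (Nat.mul C0 s0) (Nat.mul C1 s1)) (Nat.add (Nat.mul C2 s2) (Nat.mul C3 s3)))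
    (Nat.add (Nat.add (Nat.mul C4 s4) (Nat.mul C5 s5)) (Nat.add (Nat.mul C6 s6) (Nat.mul C7 s7)))

noncomputable def imp (b c : Bool) : Bool := @Bool.rec (fun _ => Bool) true c b

noncomputable def leaf (s0 s1 s2 s3 s4 s5 s6 s7 : ℕ) : Bool :=
  frc (VV s0 s1 s2 s3 s4 s5 s6 s7) fun V => imp (Nat.beq (hsum V) 32212254720)
    (frc8 (TS ⟨s0, s1, s2, s3, s4, s5, s6, s7⟩) fun t => decide (t.a < 20) || TT.contains t)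

noncomputable def lp (n : ℕ) (p : ℕ → Bool) : Bool :=
  @Nat.rec (fun _ => Bool) true (fun k ih => @Bool.rec (fun _ => Bool) false ih (p k)) n

noncomputable def ax (b : Bool) (a r : ℕ) (p : ℕ → Bool) : Bool :=
  @Bool.rec (fun _ => Bool) (p 0) (lp (Nat.div r a) fun k => p (Nat.succ k)) b

def zp (b0 b1 b2 b3 b4 b5 b6 b7 : Bool) (r : R8) : Bool :=
  ((!b0 || r.a == 0) && (!b1 || r.b == 0) && (!b2 || r.c == 0) && (!b3 || r.d == 0) && (!b4 || r.e == 0) &&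
    (!b5 || r.f == 0) && (!b6 || r.g == 0) && (!b7 || r.h == 0)) ||
  ((!b0 || r.a == 2) && (!b1 || r.b == 3) && (!b2 || r.c == 4) && (!b3 || r.d == 6) && (!b4 || r.e == 5) &&
    (!b5 || r.f == 4) && (!b6 || r.g == 3) && (!b7 || r.h == 2))

noncomputable def enum (b0 b1 b2 b3 b4 b5 b6 b7 : Bool) : Bool :=
  ax b3 6 73 fun s3 =>
  frc (Nat.sub 73 (Nat.mul 6 s3)) fun r0 => frc (Nat.mul s3 (Nat.mul 15 s3)) fun A0 =>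
  frc (Nat.mul 24 s3) fun L04 => frc (Nat.mul 20 s3) fun L02 =>
  frc (Nat.mul 18 s3) fun L05 => frc (Nat.mul 15 s3) fun L01 =>
  frc (Nat.mul 12 s3) fun L06 => frc (Nat.mul 10 s3) fun L00 =>
  frc (Nat.mul 6 s3) fun L07 =>
  ax b4 5 r0 fun s4 =>
  frc (Nat.sub r0 (Nat.mul 5 s4)) fun r1 => frc (Nat.add A0 (Nat.mul s4 (Nat.add L04 (Nat.mul 10 s4)))) fun A1 =>
  frc (Nat.add L02 (Nat.mul 16 s4)) fun L12 => frc (Nat.add L05 (Nat.mul 15 s4)) fun L15 =>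
  frc (Nat.add L01 (Nat.mul 12 s4)) fun L11 => frc (Nat.add L06 (Nat.mul 10 s4)) fun L16 =>
  frc (Nat.add L00 (Nat.mul 8 s4)) fun L10 => frc (Nat.add L07 (Nat.mul 5 s4)) fun L17 =>
  ax b2 4 r1 fun s2 =>
  frc (Nat.sub r1 (Nat.mul 4 s2)) fun r2 => frc (Nat.add A1 (Nat.mul s2 (Nat.add L12 (Nat.mul 7 s2)))) fun A2 =>
  frc (Nat.add L15 (Nat.mul 12 s2)) fun L25 => frc (Nat.add L11 (Nat.mul 10 s2)) fun L21 =>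
  frc (Nat.add L16 (Nat.mul 8 s2)) fun L26 => frc (Nat.add L10 (Nat.mul 7 s2)) fun L20 =>
  frc (Nat.add L17 (Nat.mul 4 s2)) fun L27 =>
  ax b5 4 r2 fun s5 =>
  frc (Nat.sub r2 (Nat.mul 4 s5)) fun r3 => frc (Nat.add A2 (Nat.mul s5 (Nat.add L25 (Nat.mul 6 s5)))) fun A3 =>
  frc (Nat.add L21 (Nat.mul 9 s5)) fun L31 => frc (Nat.add L26 (Nat.mul 8 s5)) fun L36 =>
  frc (Nat.add L20 (Nat.mul 6 s5)) fun L30 => frc (Nat.add L27 (Nat.mul 4 s5)) fun L37 =>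
  ax b1 3 r3 fun s1 =>
  frc (Nat.sub r3 (Nat.mul 3 s1)) fun r4 => frc (Nat.add A3 (Nat.mul s1 (Nat.add L31 (Nat.mul 4 s1)))) fun A4 =>
  frc (Nat.add L36 (Nat.mul 6 s1)) fun L46 => frc (Nat.add L30 (Nat.mul 5 s1)) fun L40 =>
  frc (Nat.add L37 (Nat.mul 3 s1)) fun L47 =>
  ax b6 3 r4 fun s6 =>
  frc (Nat.sub r4 (Nat.mul 3 s6)) fun r5 => frc (Nat.add A4 (Nat.mul s6 (Nat.add L46 (Nat.mul 3 s6)))) fun A5 =>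
  frc (Nat.add L40 (Nat.mul 4 s6)) fun L50 => frc (Nat.add L47 (Nat.mul 3 s6)) fun L57 =>
  ax b0 2 r5 fun s0 =>
  frc (Nat.sub r5 (Nat.mul 2 s0)) fun r6 => frc (Nat.add A5 (Nat.mul s0 (Nat.add L50 (Nat.mul 2 s0)))) fun A6 =>
  frc (Nat.add L57 (Nat.mul 2 s0)) fun L67 =>
  ax b7 2 r6 fun s7 =>
  imp (Nat.beq (Nat.mod (Nat.add A6 (Nat.mul s7 (Nat.add L67 s7))) 73) 0) (leaf s0 s1 s2 s3 s4 s5 s6 s7)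

noncomputable def chkM (b0 b1 b2 b3 b4 b5 b6 b7 : Bool) : Bool :=
  imp (Nat.ble 6 (pos.countP (zp b0 b1 b2 b3 b4 b5 b6 b7))) (enum b0 b1 b2 b3 b4 b5 b6 b7)

def bb (p : Bool → Bool) : Bool := p true && p false

noncomputable def chk4 (b0 b1 b2 b7 : Bool) : Bool :=
  bb fun b3 => bb fun b4 => bb fun b5 => bb fun b6 => chkM b0 b1 b2 b3 b4 b5 b6 b7

def le8 (x y : R8) : Bool :=
  Nat.ble x.a y.a && Nat.ble x.b y.b && Nat.ble x.c y.c && Nat.ble x.d y.d && Nat.ble x.e y.e &&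
    Nat.ble x.f y.f && Nat.ble x.g y.g && Nat.ble x.h y.h

def sub8 (y x : R8) : R8 :=
  ⟨y.a - x.a, y.b - x.b, y.c - x.c, y.d - x.d, y.e - x.e, y.f - x.f, y.g - x.g, y.h - x.h⟩

def nsi (v : R8) (p : R8 → Bool) : ℕ → R8 → Bool
  | 0, _ => false
  | k + 1, t => p t && (!le8 v t || frc8 (sub8 t v) (nsi v p k))

def ns : List R8 → R8 → Bool
  | [], t => t != 0
  | v :: l, t => nsi v (ns l) 250 t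

def uu (a c : ℕ) : R8 := U73 ((a + 71 * c) % 73) + U4 ((a + 2 * c) % 4)

def vv (a : ℕ) : R8 := ((Il 6 a).map (uu a)).sum

def chkO (a : ℕ) : Bool := a % 2 == 1 || !(orb 5 a).all (a ≤ ·) ||
  (((orb 5 a).map (σ 5)).isPerm (orb 5 a) &&
    frc8 ((orb 5 a).map vv).sum fun t => decide (248 < t.dim) || LL.contains t)

def vD (a : ℕ) : ℕ := ((Il 5 a).map fun c => ind ((a + 2 * c) % 4) 2).sum

def chkD (a : ℕ) : Bool := a % 2 == 1 || !(orb 4 a).all (a ≤ ·) ||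
  (((orb 4 a).map (σ 4)).isPerm (orb 4 a) && frc ((orb 4 a).map vD).sum fun t => t % 5 == 0 || t == 122)

def chkσ (f m a : ℕ) : Bool := a % 2 == 1 ||
  (decide (σ f a ≤ 2 * m) && σ f a % 2 == 0 && (σ f a == a || (decide (a < 2 * m) && decide (σ f a < 2 * m))))

end Cfsg.Agent.LD.M
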